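import Cfsg.Agent.H498.LinDerived
import Cfsg.Agent.H246.Dl.Defs

/-!
# Derived length of linear `p`-groups (helper755, task DL-LIN of S4769)

* `derivedSeries_charp`: `P ≤ GL n F` a `p`-group, characteristic `p`: `derivedSeries P (clog 2 n) = ⊥`;
* `derivedSeries_ne`: `p ≠ 0` in `F`: `derivedSeries P (log p n + 1) = ⊥`;
* `derivedSeries_ne_ord`: `F` finite, `p` does not divide `|F| ^ k - 1` for `0 < k < e`: `derivedSeries P (log p (n / e) + 1) = ⊥`.
-/

set_option autoImplicit false

namespace Cfsg.Agent.H755.Dl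

open Module Cfsg.Agent.H498.LinDerived

universe u v w

open scoped commutatorElement

theorem log_aux_p {p m n : ℕ} (hp : 1 < p) (hm : 1 ≤ m) (h : p * m ≤ n) : Nat.log p m + 1 ≤ Nat.log p n := by
  have h1 : Nat.log p (m * p) = Nat.log p m + 1 := Nat.log_mul_base hp (by omega)
  rw [← h1]
  exact Nat.log_mono_right (by rwa [mul_comm])

/-- **Coprime characteristic, algebraically closed field.** -/
theorem semisimple_p {K : Type*} [Field K] [IsAlgClosed K] {p : ℕ} [hpf : Fact p.Prime] (hpK : (p : K) ≠ 0) (n : ℕ) :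
    ∀ {P : Type*} [Group P] [Finite P] (_hP : IsPGroup p P)
      {V : Type*} [AddCommGroup V] [Module K V] [FiniteDimensional K V]
      (ρ : Representation K P V) (_hn : finrank K V = n)
      (g : P) (_hg : g ∈ derivedSeries P (Nat.log p n + 1)) (v : V), ρ g v = v := by
  induction n using Nat.strong_induction_on with
  | _ n ih =>
  intro P _ _ hP V _ _ _ ρ hn g hg v
  have hc : (Nat.card P : K) ≠ 0 := by
    obtain ⟨m, hm⟩ := IsPGroup.iff_card.mp hP
    rw [hm, Nat.cast_pow]
    exact pow_ne_zero _ hpK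
  have : Group.IsNilpotent P := hP.isNilpotent
  by_cases hV : Subsingleton V
  · exact Subsingleton.elim _ _
  rw [not_subsingleton_iff_nontrivial] at hV
  have hn0 : 0 < n := by rw [← hn]; exact finrank_pos
  by_cases hirr : ∃ σ : Subrepresentation ρ, σ ≠ ⊥ ∧ σ ≠ ⊤
  · -- reducible: use Maschke
    obtain ⟨σ, hσ0, hσ1⟩ := hirr
    have : NeZero (Nat.card P : K) := ⟨hc⟩
    have hss : ρ.IsSemisimpleRepresentation := inferInstance
    obtain ⟨τ, hτ⟩ := hss.exists_isCompl σ
    have hcompl : IsCompl σ.toSubmodule τ.toSubmodule := by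
      constructor
      · rw [disjoint_iff]
        have := hτ.1.eq_bot
        have h2 := congrArg Subrepresentation.toSubmodule this
        exact h2
      · rw [codisjoint_iff]
        have := hτ.2.eq_top
        have h2 := congrArg Subrepresentation.toSubmodule this
        exact h2
    have hdim := Submodule.finrank_add_eq_of_isCompl hcompl
    have hσpos : 0 < finrank K σ.toSubmodule := by
      rw [Nat.pos_iff_ne_zero]
      intro h0
      apply hσ0
      apply Subrepresentation.toSubmodule_injective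
      exact Submodule.finrank_eq_zero.mp h0
    have hτpos : 0 < finrank K τ.toSubmodule := by
      rw [Nat.pos_iff_ne_zero]
      intro h0
      apply hσ1
      have h1 : τ.toSubmodule = ⊥ := Submodule.finrank_eq_zero.mp h0
      apply Subrepresentation.toSubmodule_injective
      have h2 := hcompl.2.eq_top
      rw [h1, sup_bot_eq] at h2
      exact h2
    have key : ∀ α : Subrepresentation ρ, finrank K α.toSubmodule < n → ∀ w ∈ α.toSubmodule,
        ρ g w = w := by
      intro α hα w hw
      have hle : derivedSeries P (Nat.log p n + 1) ≤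
          derivedSeries P (Nat.log p (finrank K α.toSubmodule) + 1) :=
        derivedSeries_antitone P (by
          have := Nat.log_mono_right (b := p) hα.le
          omega)
      have h3 := ih _ hα hP α.toRepresentation rfl g (hle hg) ⟨w, hw⟩
      exact congrArg Subtype.val h3
    obtain ⟨a, ha, b, hb, rfl⟩ := Submodule.mem_sup.mp
      (show v ∈ σ.toSubmodule ⊔ τ.toSubmodule by rw [hcompl.2.eq_top]; trivial)
    rw [map_add, key σ (by omega) a ha, key τ (by omega) b hb]
  · push Not at hirr
    -- irreducible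
    by_cases hsc : scalars ρ = ⊤
    · -- all scalars: the group acts through an abelian group
      have h1 : derivedSeries P (Nat.log p n + 1) ≤ derivedSeries P 1 :=
        derivedSeries_antitone P (by omega)
      have h2 : derivedSeries P 1 ≤ ρ.ker := by
        rw [derivedSeries_one, commutator_def, Subgroup.commutator_le]
        intro x _ y _
        rw [MonoidHom.mem_ker]
        obtain ⟨c, hc⟩ := (mem_scalars ρ).mp (hsc ▸ Subgroup.mem_top x)
        obtain ⟨d, hd⟩ := (mem_scalars ρ).mp (hsc ▸ Subgroup.mem_top y)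
        ext w
        have e1 : ⁅x, y⁆ = (x * y) * (y * x)⁻¹ := by rw [commutatorElement_def]; group
        have e2 : ∀ u : V, ρ (x * y) u = ρ (y * x) u := by
          intro u
          rw [map_mul, map_mul, Module.End.mul_apply, Module.End.mul_apply, hd, hc, hc, hd,
            smul_smul, smul_smul, mul_comm]
        rw [e1, map_mul, Module.End.mul_apply, e2, ρ.self_inv_apply, Module.End.one_apply]
      have h3 := h2 (h1 hg)
      rw [MonoidHom.mem_ker] at h3
      rw [h3, Module.End.one_apply]
    -- pick a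
    have hcenter : ∃ a : P, a ∉ scalars ρ ∧ ∀ x : P, x * a * x⁻¹ * a⁻¹ ∈ scalars ρ := by
      have : Nontrivial (P ⧸ scalars ρ) := QuotientGroup.nontrivial_iff.mpr hsc
      have : Group.IsNilpotent (P ⧸ scalars ρ) := inferInstance
      have hc : Nontrivial (Subgroup.center (P ⧸ scalars ρ)) :=
        (Subgroup.nontrivial_iff_ne_bot _).mpr (Group.IsNilpotent.center_ne_bot _)
      obtain ⟨⟨z, hz⟩, hz1⟩ := exists_ne (1 : Subgroup.center (P ⧸ scalars ρ))
      obtain ⟨a, rfl⟩ := QuotientGroup.mk_surjective z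
      refine ⟨a, ?_, ?_⟩
      · intro ha
        apply hz1
        ext
        exact (QuotientGroup.eq_one_iff a).mpr ha
      · intro x
        rw [← QuotientGroup.eq_one_iff, QuotientGroup.mk_mul, QuotientGroup.mk_mul,
          QuotientGroup.mk_mul, QuotientGroup.mk_inv, QuotientGroup.mk_inv,
          Subgroup.mem_center_iff.mp hz]
        group
    obtain ⟨a, ha, hax⟩ := hcenter
    have hcx : ∀ x : P, ∃ c : K, c ≠ 0 ∧ ∀ v, ρ x (ρ a v) = c • ρ a (ρ x v) := by
      intro x
      obtain ⟨c, hc⟩ := (mem_scalars ρ).mp (hax x)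
      refine ⟨c, ?_, ?_⟩
      · rintro rfl
        obtain ⟨w, hw⟩ := exists_ne (0 : V)
        have h1 := hc w
        rw [zero_smul] at h1
        apply hw
        have := ρ.inv_self_apply (x * a * x⁻¹ * a⁻¹) w
        rw [h1, map_zero] at this
        exact this.symm
      · intro w
        rw [← hc, ← Module.End.mul_apply, ← Module.End.mul_apply, ← Module.End.mul_apply,
          ← map_mul, ← map_mul, ← map_mul]
        congr 2
        group
    choose c hc0 hcx using hcx
    -- the subgroup H
    have hcommH : commutator P ≤ comm ρ a := by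
      rw [commutator_def, Subgroup.commutator_le]
      intro x _ y _
      rw [mem_comm]
      intro w
      -- x y (yx)⁻¹
      have e1 : ⁅x, y⁆ = (x * y) * (y * x)⁻¹ := by rw [commutatorElement_def]; group
      rw [e1]
      have hxy : ∀ u, ρ (x * y) (ρ a u) = (c x * c y) • ρ a (ρ (x * y) u) := by
        intro u
        rw [map_mul, Module.End.mul_apply, Module.End.mul_apply, hcx y, map_smul, hcx x,
          smul_smul, mul_comm]
      have hyx : ∀ u, ρ (y * x) (ρ a u) = (c x * c y) • ρ a (ρ (y * x) u) := by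
        intro u
        rw [map_mul, Module.End.mul_apply, Module.End.mul_apply, hcx x, map_smul, hcx y,
          smul_smul]
      -- ρ (yx)⁻¹ (ρ a u) = (cx cy)⁻¹ ρ a (ρ (yx)⁻¹ u)
      have hinv : ∀ u, ρ (y * x)⁻¹ (ρ a u) = (c x * c y)⁻¹ • ρ a (ρ (y * x)⁻¹ u) := by
        intro u
        have h1 := hyx (ρ (y * x)⁻¹ u)
        rw [ρ.self_inv_apply] at h1
        have h2 : ρ a u = (c x * c y)⁻¹ • ρ (y * x) (ρ a (ρ (y * x)⁻¹ u)) := by
          rw [h1, smul_smul, inv_mul_cancel₀ (mul_ne_zero (hc0 x) (hc0 y)), one_smul]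
        rw [h2, map_smul, ρ.inv_self_apply]
      rw [map_mul, Module.End.mul_apply, Module.End.mul_apply, hinv, map_smul, hxy, smul_smul,
        inv_mul_cancel₀ (mul_ne_zero (hc0 x) (hc0 y)), one_smul]
    have hHn : (comm ρ a).Normal := by
      constructor
      intro h hh x
      have : x * h * x⁻¹ = ⁅x, h⁆ * h := by rw [commutatorElement_def]; group
      rw [this]
      exact mul_mem (hcommH (Subgroup.commutator_mem_commutator (Subgroup.mem_top x)
        (Subgroup.mem_top h))) hh
    obtain ⟨μ, hμ⟩ := Module.End.exists_eigenvalue (ρ a)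
    set W := Module.End.eigenspace (ρ a) μ with hW
    have hWmem : ∀ w, w ∈ W ↔ ρ a w = μ • w := fun w => Module.End.mem_eigenspace_iff
    have hW0 : W ≠ ⊥ := hμ
    have hμ0 : μ ≠ 0 := by
      rintro rfl
      obtain ⟨w, hw, hw0⟩ := (Submodule.ne_bot_iff W).mp hW0
      apply hw0
      have h1 := (hWmem w).mp hw
      rw [zero_smul] at h1
      have h2 := ρ.inv_self_apply a w
      rw [h1, map_zero] at h2
      exact h2.symm
    -- H invariance
    have hinvH : ∀ h : comm ρ a, W ≤ W.comap ((ρ.comp (comm ρ a).subtype) h) := by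
      rintro ⟨h, hh⟩ w hw
      change ρ h w ∈ W
      rw [hWmem] at hw ⊢
      rw [← (mem_comm ρ a h).mp hh w, hw, map_smul]
    -- exists x not in H
    have hHne : comm ρ a ≠ ⊤ := by
      intro htop
      let σ : Subrepresentation ρ :=
        { toSubmodule := W
          apply_mem_toSubmodule := by
            intro x w hw
            have := (mem_comm ρ a x).mp (htop ▸ Subgroup.mem_top x) w
            rw [hWmem] at hw ⊢
            rw [← this, hw, map_smul] }
      have hσ0 : σ ≠ ⊥ := fun h => hW0 (congrArg Subrepresentation.toSubmodule h)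
      have hσ1 := hirr σ hσ0
      have hWtop : W = ⊤ := congrArg Subrepresentation.toSubmodule hσ1
      apply ha
      refine ⟨μ, fun v => ?_⟩
      rw [← hWmem, hWtop]
      trivial
    obtain ⟨x, hx⟩ : ∃ x : P, x ∉ comm ρ a := by
      by_contra hcon
      push Not at hcon
      exact hHne ((Subgroup.eq_top_iff' _).mpr hcon)
    have hcx1 : c x ≠ 1 := by
      intro h1
      apply hx
      intro w
      rw [hcx x, h1, one_smul]
    -- dimension count
    obtain ⟨ζ, hζ⟩ : ∃ ζ, ζ = (c x)⁻¹ := ⟨_, rfl⟩
    have hζ1 : ζ ≠ 1 := by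
      rw [hζ]
      intro h1
      exact hcx1 (inv_eq_one.1 h1)
    have hζ0 : ζ ≠ 0 := by rw [hζ]; exact inv_ne_zero (hc0 x)
    have hpowx : ∀ (j : ℕ) (w : V), ρ (x ^ j) (ρ a w) = (c x) ^ j • ρ a (ρ (x ^ j) w) := by
      intro j
      induction j with
      | zero => intro w; simp
      | succ j ihj =>
        intro w
        rw [pow_succ', map_mul, Module.End.mul_apply, Module.End.mul_apply, ihj, map_smul, hcx x, smul_smul, pow_succ]
    have hcp : ∃ k : ℕ, (c x) ^ p ^ k = 1 := by
      obtain ⟨k, hk⟩ := hP x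
      refine ⟨k, ?_⟩
      obtain ⟨w, hw⟩ := exists_ne (0 : V)
      have h1 := hpowx (p ^ k) w
      rw [hk, map_one, Module.End.one_apply, Module.End.one_apply] at h1
      have h2 : ρ a w ≠ 0 := by
        intro h0
        apply hw
        have h3 := ρ.inv_self_apply a w
        rw [h0, map_zero] at h3
        exact h3.symm
      have h3 : ((c x) ^ p ^ k - 1) • ρ a w = 0 := by rw [sub_smul, one_smul, ← h1, sub_self]
      exact sub_eq_zero.1 ((smul_eq_zero.1 h3).resolve_right h2)
    have hζp : p ∣ orderOf ζ := by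
      obtain ⟨k, hk⟩ := hcp
      have h1 : ζ ^ p ^ k = 1 := by rw [hζ, inv_pow, hk, inv_one]
      obtain ⟨m, -, hm⟩ := (Nat.dvd_prime_pow hpf.out).1 (orderOf_dvd_of_pow_eq_one h1)
      rw [hm]
      apply dvd_pow_self
      rintro rfl
      rw [pow_zero, orderOf_eq_one_iff] at hm
      exact hζ1 hm
    have hinjζ : Function.Injective fun i : Fin p => ζ ^ (i : ℕ) * μ := by
      intro i i' h
      have h1 : ζ ^ (i : ℕ) = ζ ^ (i' : ℕ) := mul_right_cancel₀ hμ0 h
      have h2 : 0 < orderOf ζ := by
        obtain ⟨k, hk⟩ := hcp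
        rw [orderOf_pos_iff, isOfFinOrder_iff_pow_eq_one]
        exact ⟨p ^ k, pow_pos hpf.out.pos _, by rw [hζ, inv_pow, hk, inv_one]⟩
      have h3 : p ≤ orderOf ζ := Nat.le_of_dvd h2 hζp
      exact Fin.ext (pow_injOn_Iio_orderOf (Set.mem_Iio.2 (i.2.trans_le h3)) (Set.mem_Iio.2 (i'.2.trans_le h3)) h1)
    have heig : ∀ (j : ℕ) (w : V), w ∈ W → ρ (x ^ j) w ∈ Module.End.eigenspace (ρ a) (ζ ^ j * μ) := by
      intro j w hw
      rw [Module.End.mem_eigenspace_iff]
      have h1 := hpowx j w
      rw [(hWmem w).1 hw, map_smul] at h1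
      rw [mul_smul, h1, smul_smul, hζ, inv_pow, inv_mul_cancel₀ (pow_ne_zero j (hc0 x)), one_smul]
    have hind0 := (Module.End.eigenspaces_iSupIndep (ρ a)).comp hinjζ
    rw [iSupIndep_iff_finsetSum_eq_zero_imp_eq_zero] at hind0
    let T : (Fin p → W) →ₗ[K] V :=
      ∑ i : Fin p, (ρ (x ^ (i : ℕ))) ∘ₗ W.subtype ∘ₗ (LinearMap.proj i)
    have hT : ∀ w, T w = ∑ i : Fin p, ρ (x ^ (i : ℕ)) (w i : V) := by
      intro w
      show (∑ i : Fin p, (ρ (x ^ (i : ℕ))) ∘ₗ W.subtype ∘ₗ (LinearMap.proj i)) w = _
      rw [LinearMap.sum_apply]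
      rfl
    have hTi : Function.Injective T := by
      rw [← LinearMap.ker_eq_bot, LinearMap.ker_eq_bot']
      intro w hw
      rw [hT] at hw
      have h1 := hind0 Finset.univ (fun i => ρ (x ^ (i : ℕ)) (w i : V)) (fun i _ => heig _ _ (w i).2) hw
      funext i
      have h2 := h1 i (Finset.mem_univ i)
      apply Subtype.ext
      have h3 := ρ.inv_self_apply (x ^ (i : ℕ)) (w i : V)
      beta_reduce at h2
      rw [h2, map_zero] at h3
      exact h3.symm
    have hdim : p * finrank K W ≤ n := by
      have h1 := LinearMap.finrank_le_finrank_of_injective hTi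
      rw [Module.finrank_pi_fintype, Finset.sum_const, Finset.card_univ, Fintype.card_fin, smul_eq_mul, hn] at h1
      exact h1
    have hWpos : 1 ≤ finrank K W := by
      rw [Nat.one_le_iff_ne_zero]
      intro h0
      exact hW0 (Submodule.finrank_eq_zero.mp h0)
    -- induction
    have hind := ih (finrank K W) (by nlinarith [hpf.out.two_le]) (hP.to_subgroup (comm ρ a))
      (Representation.subrepresentation (ρ.comp (comm ρ a).subtype) W hinvH) rfl
    have hDW : ∀ d ∈ derivedSeries P (Nat.log p n + 1), ∀ w ∈ W, ρ d w = w := by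
      intro d hd w hw
      obtain ⟨⟨h, hhH⟩, hh, rfl⟩ := derivedSeries_succ_le_map (comm ρ a) hcommH _ hd
      have h1 := derivedSeries_antitone (comm ρ a) (log_aux_p hpf.out.one_lt hWpos hdim) hh
      have h2 := hind ⟨h, hhH⟩ h1 ⟨w, hw⟩
      exact congrArg Subtype.val h2
    have hne : fixedOf ρ (derivedSeries P (Nat.log p n + 1)) ≠ ⊥ := by
      intro h0
      have h1 : (fixedOf ρ (derivedSeries P (Nat.log p n + 1))).toSubmodule = ⊥ :=
        congrArg Subrepresentation.toSubmodule h0
      apply hW0
      rw [eq_bot_iff, ← h1]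
      intro w hw d hd
      exact hDW d hd w hw
    have htop := hirr _ hne
    have h1 : (fixedOf ρ (derivedSeries P (Nat.log p n + 1))).toSubmodule = ⊤ :=
      congrArg Subrepresentation.toSubmodule htop
    have h2 : v ∈ (fixedOf ρ (derivedSeries P (Nat.log p n + 1))).toSubmodule := by
      rw [h1]; trivial
    exact h2 g hg


/-- **Coprime characteristic, any field.** -/
theorem rep_ne {K P V : Type*} [Field K] [Group P] [Finite P] [AddCommGroup V] [Module K V] [FiniteDimensional K V]
    {p : ℕ} [Fact p.Prime] (hpK : (p : K) ≠ 0) (hP : IsPGroup p P) (ρ : Representation K P V) (g : P)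
    (hg : g ∈ derivedSeries P (Nat.log p (finrank K V) + 1)) (v : V) : ρ g v = v := by
  classical
  let b := Module.finBasis K V
  let L := AlgebraicClosure K
  let f : Matrix (Fin (finrank K V)) (Fin (finrank K V)) K →+* Matrix (Fin (finrank K V)) (Fin (finrank K V)) L :=
    (algebraMap K L).mapMatrix
  have hf : Function.Injective f := by
    intro M N h
    ext i j
    have h2 := congrFun (congrFun h i) j
    exact (algebraMap K L).injective h2
  let φ : P →* Matrix (Fin (finrank K V)) (Fin (finrank K V)) L :=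
    f.toMonoidHom.comp ((LinearMap.toMatrixAlgEquiv b : (V →ₗ[K] V) →* _).comp ρ)
  let σ : Representation L P (Fin (finrank K V) → L) :=
    ((Matrix.toLinAlgEquiv' : Matrix (Fin (finrank K V)) (Fin (finrank K V)) L ≃ₐ[L] _) :
      Matrix (Fin (finrank K V)) (Fin (finrank K V)) L →* _).comp φ
  have hpL : (p : L) ≠ 0 := by
    intro h
    apply hpK
    apply (algebraMap K L).injective
    rw [map_natCast, h, map_zero]
  have h1 : finrank L (Fin (finrank K V) → L) = finrank K V := Module.finrank_fin_fun L
  have h2 := semisimple_p hpL (finrank K V) hP σ h1 g hg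
  have h3 : σ g = 1 := by
    ext1 w
    ext i
    simp [h2]
  have h4 : φ g = 1 := Matrix.toLinAlgEquiv'.injective (h3.trans (map_one _).symm)
  have h5 : LinearMap.toMatrixAlgEquiv b (ρ g) = 1 := hf (h4.trans (map_one f).symm)
  have h6 : ρ g = 1 := (LinearMap.toMatrixAlgEquiv b).injective (h5.trans (map_one _).symm)
  rw [h6, Module.End.one_apply]

/-- Over an extension field `D` acting on `V`. -/
theorem rep_over {F D P V : Type*} [Field F] [Field D] [Algebra F D] [Group P] [Finite P] [AddCommGroup V]
    [Module F V] [Module D V] [IsScalarTower F D V] [FiniteDimensional F V]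
    {p : ℕ} [Fact p.Prime] (hpF : (p : F) ≠ 0) (hP : IsPGroup p P) (ρ : Representation F P V)
    (hρ : ∀ x (d : D) v, ρ x (d • v) = d • ρ x v) (g : P)
    (hg : g ∈ derivedSeries P (Nat.log p (finrank D V) + 1)) (v : V) : ρ g v = v := by
  have : FiniteDimensional D V := Module.Finite.right F D V
  let σ : Representation D P V :=
    { toFun := fun x => { toFun := ρ x, map_add' := map_add _, map_smul' := fun d v => hρ x d v }
      map_one' := by ext v; simp
      map_mul' := fun x y => by
        ext v
        show ρ (x * y) v = ρ x (ρ y v)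
        rw [map_mul, Module.End.mul_apply] }
  exact rep_ne (by
    intro h
    apply hpF
    apply (algebraMap F D).injective
    rw [map_natCast, h, map_zero]) hP σ g hg v

/-- The field generated by an element which is central modulo the kernel. -/
theorem exists_field {F P : Type*} {V : Type v} [Field F] [Finite F] [Group P] [Finite P] [AddCommGroup V]
    [Module F V] [FiniteDimensional F V] [Nontrivial V] {p : ℕ} [hpf : Fact p.Prime] (hP : IsPGroup p P)
    (ρ : Representation F P V) (hirr : ∀ σ : Subrepresentation ρ, σ ≠ ⊥ → σ = ⊤) (hne : ρ.ker ≠ ⊤) :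
    ∃ (D : Type v) (_ : Field D) (_ : Algebra F D) (_ : Module D V) (_ : IsScalarTower F D V), Finite D ∧
      (∀ x (d : D) v, ρ x (d • v) = d • ρ x v) ∧ p ∣ Nat.card D - 1 := by
  have : Group.IsNilpotent P := hP.isNilpotent
  have hfV : Finite V := Module.finite_of_finite F
  have hfE : Finite (Module.End F V) := Module.finite_of_finite F
  -- `z`
  obtain ⟨z, hz1, hz⟩ : ∃ z : P, ρ z ≠ 1 ∧ ∀ x, ρ x * ρ z = ρ z * ρ x := by
    have : Nontrivial (P ⧸ ρ.ker) := QuotientGroup.nontrivial_iff.mpr hne
    have : Group.IsNilpotent (P ⧸ ρ.ker) := inferInstance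
    have hc : Nontrivial (Subgroup.center (P ⧸ ρ.ker)) :=
      (Subgroup.nontrivial_iff_ne_bot _).mpr (Group.IsNilpotent.center_ne_bot _)
    obtain ⟨⟨w, hw⟩, hw1⟩ := exists_ne (1 : Subgroup.center (P ⧸ ρ.ker))
    obtain ⟨a, rfl⟩ := QuotientGroup.mk_surjective w
    refine ⟨a, ?_, ?_⟩
    · intro ha
      apply hw1
      ext
      exact (QuotientGroup.eq_one_iff a).mpr ha
    · intro x
      have h1 : (x * a)⁻¹ * (a * x) ∈ ρ.ker := by
        rw [← QuotientGroup.eq, QuotientGroup.mk_mul, QuotientGroup.mk_mul]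
        exact Subgroup.mem_center_iff.mp hw x
      rw [MonoidHom.mem_ker] at h1
      have h2 : ρ (x * a) * ρ ((x * a)⁻¹ * (a * x)) = ρ (a * x) := by
        rw [← map_mul]
        congr 1
        group
      rw [h1, mul_one] at h2
      rw [← map_mul, ← map_mul, h2]
  let A : Subalgebra F (Module.End F V) := Algebra.adjoin F {ρ z}
  have hzA : ρ z ∈ A := Algebra.subset_adjoin rfl
  have hAρ : ∀ a ∈ A, ∀ x, ρ x * a = a * ρ x := by
    intro a ha x
    have h1 : A ≤ Subalgebra.centralizer F {ρ x} := by
      apply Algebra.adjoin_le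
      rintro _ rfl
      rw [SetLike.mem_coe, Subalgebra.mem_centralizer_iff]
      rintro _ rfl
      exact hz x
    exact (Subalgebra.mem_centralizer_iff F).1 (h1 ha) (ρ x) rfl
  have hAA : ∀ a ∈ A, ∀ b ∈ A, a * b = b * a := by
    intro a ha b hb
    have h1 : A ≤ Subalgebra.centralizer F {a} := by
      apply Algebra.adjoin_le
      rintro _ rfl
      rw [SetLike.mem_coe, Subalgebra.mem_centralizer_iff]
      rintro _ rfl
      exact (hAρ _ ha z).symm
    exact (Subalgebra.mem_centralizer_iff F).1 (h1 hb) a rfl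
  have hinv : ∀ a ∈ A, a ≠ 0 → ∃ b ∈ A, a * b = 1 := by
    intro a ha ha0
    let σ : Subrepresentation ρ :=
      { toSubmodule := LinearMap.ker a
        apply_mem_toSubmodule := by
          intro x w hw
          rw [LinearMap.mem_ker] at hw ⊢
          have h1 := congrArg (fun f : Module.End F V => f w) (hAρ a ha x)
          simp only [Module.End.mul_apply] at h1
          rw [← h1, hw, map_zero] }
    have hker : LinearMap.ker a = ⊥ := by
      by_contra h0
      have h1 : σ ≠ ⊥ := fun h => h0 (congrArg Subrepresentation.toSubmodule h)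
      have h2 : LinearMap.ker a = ⊤ := congrArg Subrepresentation.toSubmodule (hirr σ h1)
      exact ha0 (LinearMap.ker_eq_top.1 h2)
    have hu : IsUnit a := (Module.End.isUnit_iff a).2 ⟨LinearMap.ker_eq_bot.1 hker,
      LinearMap.injective_iff_surjective.1 (LinearMap.ker_eq_bot.1 hker)⟩
    obtain ⟨u, rfl⟩ := hu
    have h1 := isOfFinOrder_of_finite u
    obtain ⟨k, hk, hk1⟩ := isOfFinOrder_iff_pow_eq_one.1 h1
    refine ⟨(u : Module.End F V) ^ (k - 1), A.pow_mem ha _, ?_⟩
    rw [← pow_succ', Nat.sub_add_cancel hk, ← Units.val_pow_eq_pow_val, hk1, Units.val_one]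
  have hfield : IsField A :=
    { exists_pair_ne := ⟨0, 1, fun h => by
        have h1 : (0 : Module.End F V) = 1 := congrArg Subtype.val h
        exact zero_ne_one h1⟩
      mul_comm := fun a b => Subtype.ext (hAA a a.2 b b.2)
      mul_inv_cancel := fun {a} ha => by
        obtain ⟨b, hb, hab⟩ := hinv a a.2 (fun h => ha (Subtype.ext h))
        exact ⟨⟨b, hb⟩, Subtype.ext hab⟩ }
  let _ : Field A := hfield.toField
  refine ⟨A, inferInstance, inferInstance, inferInstance, inferInstance, inferInstance, ?_, ?_⟩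
  · intro x d v
    exact congrArg (fun f : Module.End F V => f v) (hAρ d d.2 x)
  · have hz0 : (⟨ρ z, hzA⟩ : A) ≠ 0 := by
      intro h
      obtain ⟨w, hw⟩ := exists_ne (0 : V)
      apply hw
      have h1 : ρ z w = 0 := congrArg (fun f : A => (f : Module.End F V) w) h
      have h2 := ρ.inv_self_apply z w
      rw [h1, map_zero] at h2
      exact h2.symm
    obtain ⟨k, hk⟩ := hP z
    have hu1 : (Units.mk0 (⟨ρ z, hzA⟩ : A) hz0) ^ p ^ k = 1 := by
      apply Units.ext
      rw [Units.val_pow_eq_pow_val, Units.val_mk0, Units.val_one]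
      apply Subtype.ext
      show (ρ z) ^ p ^ k = 1
      rw [← map_pow, hk, map_one]
    have hu2 : Units.mk0 (⟨ρ z, hzA⟩ : A) hz0 ≠ 1 := by
      intro h
      apply hz1
      exact congrArg (fun u : Aˣ => ((u : A) : Module.End F V)) h
    have h3 : p ∣ orderOf (Units.mk0 (⟨ρ z, hzA⟩ : A) hz0) := by
      obtain ⟨m, -, hm⟩ := (Nat.dvd_prime_pow hpf.out).1 (orderOf_dvd_of_pow_eq_one hu1)
      rw [hm]
      apply dvd_pow_self
      rintro rfl
      rw [pow_zero, orderOf_eq_one_iff] at hm
      exact hu2 hm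
    rw [← Nat.card_units]
    exact h3.trans (orderOf_dvd_natCard _)

/-- **Coprime characteristic, finite field.** -/
theorem rep_ne_ord {F : Type u} [Field F] [Finite F] {p e : ℕ} [hpf : Fact p.Prime] (hpF : (p : F) ≠ 0) (he0 : 0 < e)
    (he : ∀ k, 0 < k → p ∣ Nat.card F ^ k - 1 → e ≤ k) (n : ℕ) :
    ∀ {P : Type w} [Group P] [Finite P] (_hP : IsPGroup p P)
      {V : Type v} [AddCommGroup V] [Module F V] [FiniteDimensional F V]
      (ρ : Representation F P V) (_hn : finrank F V = n)
      (g : P) (_hg : g ∈ derivedSeries P (Nat.log p (n / e) + 1)) (v : V), ρ g v = v := by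
  induction n using Nat.strong_induction_on with
  | _ n ih =>
  intro P _ _ hP V _ _ _ ρ hn g hg v
  have hc : (Nat.card P : F) ≠ 0 := by
    obtain ⟨m, hm⟩ := IsPGroup.iff_card.mp hP
    rw [hm, Nat.cast_pow]
    exact pow_ne_zero _ hpF
  by_cases hV : Subsingleton V
  · exact Subsingleton.elim _ _
  rw [not_subsingleton_iff_nontrivial] at hV
  by_cases hirr : ∃ σ : Subrepresentation ρ, σ ≠ ⊥ ∧ σ ≠ ⊤
  · -- reducible: use Maschke
    obtain ⟨σ, hσ0, hσ1⟩ := hirr
    have : NeZero (Nat.card P : F) := ⟨hc⟩
    have hss : ρ.IsSemisimpleRepresentation := inferInstance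
    obtain ⟨τ, hτ⟩ := hss.exists_isCompl σ
    have hcompl : IsCompl σ.toSubmodule τ.toSubmodule := by
      constructor
      · rw [disjoint_iff]
        have := hτ.1.eq_bot
        have h2 := congrArg Subrepresentation.toSubmodule this
        exact h2
      · rw [codisjoint_iff]
        have := hτ.2.eq_top
        have h2 := congrArg Subrepresentation.toSubmodule this
        exact h2
    have hdim := Submodule.finrank_add_eq_of_isCompl hcompl
    have hσpos : 0 < finrank F σ.toSubmodule := by
      rw [Nat.pos_iff_ne_zero]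
      intro h0
      apply hσ0
      apply Subrepresentation.toSubmodule_injective
      exact Submodule.finrank_eq_zero.mp h0
    have hτpos : 0 < finrank F τ.toSubmodule := by
      rw [Nat.pos_iff_ne_zero]
      intro h0
      apply hσ1
      have h1 : τ.toSubmodule = ⊥ := Submodule.finrank_eq_zero.mp h0
      apply Subrepresentation.toSubmodule_injective
      have h2 := hcompl.2.eq_top
      rw [h1, sup_bot_eq] at h2
      exact h2
    have key : ∀ α : Subrepresentation ρ, finrank F α.toSubmodule < n → ∀ w ∈ α.toSubmodule,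
        ρ g w = w := by
      intro α hα w hw
      have hle : derivedSeries P (Nat.log p (n / e) + 1) ≤
          derivedSeries P (Nat.log p (finrank F α.toSubmodule / e) + 1) :=
        derivedSeries_antitone P (by
          have := Nat.log_mono_right (b := p) (Nat.div_le_div_right (c := e) hα.le)
          omega)
      have h3 := ih _ hα hP α.toRepresentation rfl g (hle hg) ⟨w, hw⟩
      exact congrArg Subtype.val h3
    obtain ⟨a, ha, b, hb, rfl⟩ := Submodule.mem_sup.mp
      (show v ∈ σ.toSubmodule ⊔ τ.toSubmodule by rw [hcompl.2.eq_top]; trivial)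
    rw [map_add, key σ (by omega) a ha, key τ (by omega) b hb]
  · push Not at hirr
    by_cases hker : ρ.ker = ⊤
    · have h1 : g ∈ ρ.ker := hker ▸ Subgroup.mem_top g
      rw [MonoidHom.mem_ker] at h1
      rw [h1, Module.End.one_apply]
    · obtain ⟨D, _, _, _, _, hfD, hρ, hpD⟩ := exists_field hP ρ hirr hker
      have hFD : Module.Finite F D := Module.Finite.of_finite
      have hcD : Nat.card D = Nat.card F ^ finrank F D := Module.natCard_eq_pow_finrank
      have hef : e ≤ finrank F D := he _ Module.finrank_pos (by rwa [hcD] at hpD)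
      have hmul : finrank F D * finrank D V = n := by rw [Module.finrank_mul_finrank F D V, hn]
      have hle : finrank D V ≤ n / e := by
        rw [Nat.le_div_iff_mul_le he0, ← hmul, mul_comm]
        exact Nat.mul_le_mul_right _ hef
      exact rep_over hpF hP ρ hρ g (derivedSeries_antitone P (by
        have := Nat.log_mono_right (b := p) hle
        omega) hg) v

section MatGL

variable {F : Type*} [Field F] {n p : ℕ} [hpf : Fact p.Prime]

/-- the natural representation -/
noncomputable def nat (n : ℕ) (F : Type*) [Field F] {P : Type*} [Group P] (ρ : P →* GL (Fin n) F) :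
    Representation F P (Fin n → F) :=
  ((Matrix.toLinAlgEquiv' : Matrix (Fin n) (Fin n) F ≃ₐ[F] _) : Matrix (Fin n) (Fin n) F →* _).comp
    ((Units.coeHom _).comp ρ)

theorem eq_one_of_nat {P : Type*} [Group P] {ρ : P →* GL (Fin n) F} (hρ : Function.Injective ρ) {g : P}
    (h : ∀ v, nat n F ρ g v = v) : g = 1 := by
  apply hρ
  apply Units.ext
  have h1 : Matrix.toLinAlgEquiv' ((ρ g : GL (Fin n) F) : Matrix (Fin n) (Fin n) F) = 1 := LinearMap.ext h
  rw [map_one, Units.val_one]
  exact Matrix.toLinAlgEquiv'.injective (h1.trans (map_one _).symm)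

theorem charp {P : Type*} [Group P] [Finite P] (hP : IsPGroup p P) [CharP F p] {ρ : P →* GL (Fin n) F}
    (hρ : Function.Injective ρ) : derivedSeries P (Nat.clog 2 n) = ⊥ := by
  rw [eq_bot_iff]
  intro g hg
  rw [Subgroup.mem_bot]
  exact eq_one_of_nat hρ fun v => unipotent (nat n F ρ) hP (Nat.clog 2 n) (by
    rw [Module.finrank_fin_fun]; exact Nat.le_pow_clog (by norm_num) n) g hg v

theorem ne {P : Type*} [Group P] [Finite P] (hP : IsPGroup p P) (hpF : (p : F) ≠ 0) {ρ : P →* GL (Fin n) F}
    (hρ : Function.Injective ρ) : derivedSeries P (Nat.log p n + 1) = ⊥ := by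
  rw [eq_bot_iff]
  intro g hg
  rw [Subgroup.mem_bot]
  exact eq_one_of_nat hρ fun v => rep_ne hpF hP (nat n F ρ) g (by rwa [Module.finrank_fin_fun]) v

theorem ne_ord {P : Type*} [Group P] [Finite P] (hP : IsPGroup p P) [Finite F] {e : ℕ} (hpF : (p : F) ≠ 0)
    (he0 : 0 < e) (he : ∀ k, 0 < k → p ∣ Nat.card F ^ k - 1 → e ≤ k) {ρ : P →* GL (Fin n) F}
    (hρ : Function.Injective ρ) : derivedSeries P (Nat.log p (n / e) + 1) = ⊥ := by
  rw [eq_bot_iff]
  intro g hg
  rw [Subgroup.mem_bot]
  exact eq_one_of_nat hρ fun v => rep_ne_ord hpF he0 he n hP (nat n F ρ) (Module.finrank_fin_fun F) g hg v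

/-- **(a)** -/
theorem derivedSeries_charp [Finite F] [CharP F p] (P : Subgroup (GL (Fin n) F)) (hP : IsPGroup p ↥P) :
    derivedSeries ↥P (Nat.clog 2 n) = ⊥ := by
  have : Finite ↥P := by
    have : Fintype F := Fintype.ofFinite F
    have : Finite (GL (Fin n) F) := inferInstance
    infer_instance
  exact charp hP P.subtype_injective

/-- **(b)** -/
theorem derivedSeries_ne (hpF : (p : F) ≠ 0) (P : Subgroup (GL (Fin n) F)) [Finite ↥P] (hP : IsPGroup p ↥P) :
    derivedSeries ↥P (Nat.log p n + 1) = ⊥ :=
  ne hP hpF P.subtype_injective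

/-- **(c)** -/
theorem derivedSeries_ne_ord [Finite F] {e : ℕ} (hpF : (p : F) ≠ 0) (he0 : 0 < e)
    (he : ∀ k, 0 < k → p ∣ Nat.card F ^ k - 1 → e ≤ k) (P : Subgroup (GL (Fin n) F)) (hP : IsPGroup p ↥P) :
    derivedSeries ↥P (Nat.log p (n / e) + 1) = ⊥ := by
  have : Finite ↥P := by
    have : Fintype F := Fintype.ofFinite F
    have : Finite (GL (Fin n) F) := inferInstance
    infer_instance
  exact ne_ord hP hpF he0 he P.subtype_injective

end MatGL

section DlLe

open Cfsg.Agent.H246.Dl

variable {S : Type*} [Group S] {p : ℕ} [hpf : Fact p.Prime]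

/-- `DlLe` from a group mapping onto `S`. -/
theorem DlLe_of_surjective {G : Type*} [Group G] [Finite G] {f : G →* S} (hf : Function.Surjective f) {d : ℕ}
    (h : ∀ Q : Subgroup G, IsPGroup p ↥Q → derivedSeries ↥Q d = ⊥) : DlLe p d S := by
  intro P
  have : Finite S := Finite.of_surjective f hf
  obtain ⟨Q⟩ : Nonempty (Sylow p G) := inferInstance
  obtain ⟨s, hs⟩ := MulAction.exists_smul_eq S (Q.mapSurjective hf) P
  obtain ⟨g, rfl⟩ := hf s
  have hPQ : (P : Subgroup S) = ((g • Q : Sylow p G) : Subgroup G).map f := by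
    rw [← hs]
    ext x
    constructor
    · intro hx
      rw [Sylow.coe_subgroup_smul, Subgroup.mem_pointwise_smul_iff_inv_smul_mem] at hx
      obtain ⟨y, hy, hyx⟩ := hx
      refine ⟨g * y * g⁻¹, ?_, ?_⟩
      · rw [SetLike.mem_coe, Sylow.coe_subgroup_smul, Subgroup.mem_pointwise_smul_iff_inv_smul_mem]
        have e1 : (MulAut.conj g)⁻¹ • (g * y * g⁻¹) = y := by simp [MulAut.smul_def, mul_assoc]
        rw [e1]
        exact hy
      · rw [map_mul, map_mul, map_inv, hyx]
        simp [MulAut.smul_def, mul_assoc]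
    · rintro ⟨y, hy, rfl⟩
      rw [SetLike.mem_coe, Sylow.coe_subgroup_smul, Subgroup.mem_pointwise_smul_iff_inv_smul_mem] at hy
      rw [Sylow.coe_subgroup_smul, Subgroup.mem_pointwise_smul_iff_inv_smul_mem]
      refine ⟨g⁻¹ * y * g, ?_, ?_⟩
      · have e1 : (MulAut.conj g)⁻¹ • y = g⁻¹ * y * g := by simp [MulAut.smul_def]
        rw [e1] at hy
        exact hy
      · rw [map_mul, map_mul, map_inv]
        simp [MulAut.smul_def, mul_assoc]
  have h0 := h ((g • Q : Sylow p G) : Subgroup G) (g • Q).isPGroup'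
  have h1 : derivedSeries ↥(P : Subgroup S) d = ⊥ := by
    rw [hPQ]
    have h2 := map_derivedSeries_eq (f.subgroupMap_surjective ((g • Q : Sylow p G) : Subgroup G)) d
    rw [← h2, h0, Subgroup.map_bot]
  exact h1

variable {F : Type*} [Field F] {n : ℕ} {G : Type*} [Group G] [Finite G] {f : G →* S} {ρ : G →* GL (Fin n) F}

/-- **(d), defining characteristic.** -/
theorem DlLe_charp [CharP F p] (hf : Function.Surjective f) (hρ : Function.Injective ρ) : DlLe p (Nat.clog 2 n) S :=
  DlLe_of_surjective hf fun Q hQ => charp hQ (ρ := ρ.comp Q.subtype) (hρ.comp Q.subtype_injective)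

/-- **(d), coprime characteristic.** -/
theorem DlLe_ne (hpF : (p : F) ≠ 0) (hf : Function.Surjective f) (hρ : Function.Injective ρ) :
    DlLe p (Nat.log p n + 1) S :=
  DlLe_of_surjective hf fun Q hQ => ne hQ hpF (ρ := ρ.comp Q.subtype) (hρ.comp Q.subtype_injective)

/-- **(d), coprime characteristic, finite field.** -/
theorem DlLe_ne_ord [Finite F] {e : ℕ} (hpF : (p : F) ≠ 0) (he0 : 0 < e)
    (he : ∀ k, 0 < k → p ∣ Nat.card F ^ k - 1 → e ≤ k) (hf : Function.Surjective f) (hρ : Function.Injective ρ) :
    DlLe p (Nat.log p (n / e) + 1) S :=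
  DlLe_of_surjective hf fun Q hQ => ne_ord hQ hpF he0 he (ρ := ρ.comp Q.subtype) (hρ.comp Q.subtype_injective)

end DlLe

end Cfsg.Agent.H755.Dl
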